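import Cfsg.Agent.Lib.HallPetresco.Basic
import Cfsg.Agent.Lib.Regular.Torsion
import Cfsg.Agent.Lib.SectRank.Metacyclic

/-!
Powers in groups of maximal class of small order relative to the prime: if `|S| = p ^ (2k+1)`, `S` has
class `2k` and `k + 2 ≤ p`, then the term `γ_k` of the lower central series is elementary abelian.
-/

set_option autoImplicit false

namespace Cfsg.Agent.Lib.MaxClassPow

open scoped commutatorElement
open Cfsg.Agent.Lib

variable {S : Type*} [Group S] {p : ℕ}

/-- The lower central series, indexed from zero. -/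
abbrev lcs (S : Type*) [Group S] (i : ℕ) : Subgroup S := (⊤ : Subgroup S).lowerCentralSeries i

theorem lcs_le {i j : ℕ} (h : i ≤ j) : lcs S j ≤ lcs S i := Subgroup.lowerCentralSeries_antitone _ h

theorem lcs_eq_bot_of_stationary [Group.IsNilpotent S] {i : ℕ} (h : lcs S (i + 1) = lcs S i) :
    lcs S i = ⊥ := by
  have hm : ∀ m, lcs S (i + m) = lcs S i := by
    intro m
    induction m with
    | zero => rfl
    | succ m ih =>
      have h1 : lcs S (i + m + 1) = lcs S (i + 1) := by
        simp only [lcs, Subgroup.lowerCentralSeries_succ] at ih ⊢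
        rw [ih]
      exact h1.trans h
  rw [← hm (Group.nilpotencyClass S)]
  refine le_bot_iff.1 ((lcs_le (Nat.le_add_left _ i)).trans ?_)
  exact (Subgroup.lowerCentralSeries_nilpotencyClass (G := S)).le

theorem exists_zpow_mul {A B : Subgroup S} [B.Normal] (hBA : B ≤ A) (hp : p.Prime)
    (hidx : B.relIndex A = p) {a : S} (ha : a ∈ A) (haB : a ∉ B) {x : S} (hx : x ∈ A) :
    ∃ i : ℤ, (a ^ i)⁻¹ * x ∈ B := by
  haveI := Fact.mk hp
  have hcard : Nat.card (A ⧸ B.subgroupOf A) = p := hidx
  have hne : ((⟨a, ha⟩ : A) : A ⧸ B.subgroupOf A) ≠ 1 := fun h => haB ((QuotientGroup.eq_one_iff (⟨a, ha⟩ : A)).1 h)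
  obtain ⟨i, hi⟩ := mem_zpowers_of_prime_card (g' := ((⟨x, hx⟩ : A) : A ⧸ B.subgroupOf A)) hcard hne
  refine ⟨i, ?_⟩
  simp only [← QuotientGroup.mk_zpow] at hi
  simpa [Subgroup.mem_subgroupOf] using QuotientGroup.eq.1 hi

theorem lcs_one_eq_bot_of_isCyclic [Group.IsNilpotent S] (hcyc : IsCyclic (S ⧸ lcs S 1)) :
    lcs S 1 = ⊥ := by
  refine lcs_eq_bot_of_stationary (le_antisymm (lcs_le (Nat.le_succ 1)) ?_)
  have h12 : lcs S 2 ≤ (lcs S 1).comap (MonoidHom.id S) := lcs_le (show 1 ≤ 2 by norm_num)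
  let f := QuotientGroup.map (lcs S 2) (lcs S 1) (MonoidHom.id S) h12
  have hker : f.ker ≤ Subgroup.center (S ⧸ lcs S 2) := by
    intro q hq
    obtain ⟨x, rfl⟩ := QuotientGroup.mk'_surjective _ q
    refine Subgroup.mem_center_iff.2 fun y => ?_
    obtain ⟨y, rfl⟩ := QuotientGroup.mk'_surjective _ y
    refine (commutatorElement_eq_one_iff_mul_comm.1 ?_).symm
    rw [← map_commutatorElement]
    refine (QuotientGroup.eq_one_iff _).2 ?_
    exact Subgroup.commutator_mem_commutator ((QuotientGroup.eq_one_iff x).1 hq) (Subgroup.mem_top y)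
  rw [show lcs S 1 = ⁅(⊤ : Subgroup S), ⊤⁆ from rfl, Subgroup.commutator_le]
  intro a _ b _
  refine (QuotientGroup.eq_one_iff _).1 ?_
  show QuotientGroup.mk' (lcs S 2) ⁅a, b⁆ = 1
  rw [map_commutatorElement, commutatorElement_eq_one_iff_mul_comm]
  exact commutative_of_cyclic_center_quotient f hker _ _

theorem card_mul_relIndex_lcs {A B : Subgroup S} (hle : A ≤ B) :
    Nat.card A * A.relIndex B = Nat.card B := by
  rw [← Subgroup.relIndex_bot_left A, Subgroup.relIndex_mul_relIndex _ _ _ bot_le hle,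
    Subgroup.relIndex_bot_left]

variable [Finite S] [hp : Fact p.Prime]

theorem index_commutator_ge (hS : IsPGroup p S) (h : lcs S 1 ≠ ⊥) : p ^ 2 ≤ (lcs S 1).index := by
  haveI := hS.isNilpotent
  obtain ⟨j, hj⟩ := hS.index (lcs S 1)
  rw [hj]
  refine Nat.pow_le_pow_right hp.out.pos ?_
  by_contra hlt
  refine h (lcs_one_eq_bot_of_isCyclic ?_)
  rcases (by omega : j = 0 ∨ j = 1) with rfl | rfl
  · have : Subsingleton (S ⧸ lcs S 1) := (Nat.card_eq_one_iff_unique.1 (hj.trans (pow_zero p))).1
    infer_instance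
  · exact isCyclic_of_prime_card (p := p) (hj.trans (pow_one p))

theorem mul_le_card_lcs (hS : IsPGroup p S) {i : ℕ} (h : lcs S i ≠ ⊥) :
    Nat.card (lcs S (i + 1)) * p ≤ Nat.card (lcs S i) := by
  haveI := hS.isNilpotent
  have hle : lcs S (i + 1) ≤ lcs S i := lcs_le (Nat.le_succ i)
  have hne : (lcs S (i + 1)).relIndex (lcs S i) ≠ 1 := fun h1 =>
    h (lcs_eq_bot_of_stationary (le_antisymm hle (Subgroup.relIndex_eq_one.1 h1)))
  obtain ⟨j, hj⟩ := (hS.to_subgroup (lcs S i)).index ((lcs S (i + 1)).subgroupOf (lcs S i))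
  rw [← card_mul_relIndex_lcs hle]
  refine Nat.mul_le_mul_left _ ?_
  have hj' : (lcs S (i + 1)).relIndex (lcs S i) = p ^ j := hj
  rw [hj'] at hne ⊢
  rcases j with _ | j
  · simp at hne
  · exact Nat.le_self_pow (Nat.succ_ne_zero j) p

/-- Orders of the lower central terms of a group of maximal class. -/
theorem card_lcs (hS : IsPGroup p S) {c : ℕ} (hc : 1 ≤ c) (hcard : Nat.card S = p ^ (c + 1))
    (hcl : Group.nilpotencyClass S = c) {i : ℕ} (hi1 : 1 ≤ i) (hi : i ≤ c) :
    Nat.card (lcs S i) = p ^ (c - i) := by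
  haveI := hS.isNilpotent
  have hne : ∀ j, j < c → lcs S j ≠ ⊥ := fun j hj h => by
    have := Subgroup.lowerCentralSeries_eq_bot_iff_nilpotencyClass_le.1 h
    omega
  have hlow : ∀ d, d ≤ c → p ^ d ≤ Nat.card (lcs S (c - d)) := by
    intro d
    induction d with
    | zero => intro _; exact Nat.card_pos
    | succ d ih =>
      intro hd
      refine le_trans ?_ (mul_le_card_lcs hS (hne (c - (d + 1)) (by omega)))
      rw [pow_succ, show c - (d + 1) + 1 = c - d by omega]
      exact Nat.mul_le_mul_right p (ih (by omega))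
  have hup : ∀ j, 1 ≤ j → j ≤ c → Nat.card (lcs S j) ≤ p ^ (c - j) := by
    intro j
    induction j with
    | zero => omega
    | succ j ih =>
      intro _ hj
      rcases Nat.eq_zero_or_pos j with rfl | hj0
      · by_cases h1 : lcs S 1 = ⊥
        · rw [h1, Subgroup.card_bot]; exact Nat.one_le_pow _ _ hp.out.pos
        · have h2 := index_commutator_ge hS h1
          have h3 := Subgroup.card_mul_index (lcs S 1)
          rw [hcard] at h3
          refine Nat.le_of_mul_le_mul_right (c := p ^ 2) ?_ (pow_pos hp.out.pos 2)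
          rw [← pow_add, show c - (0 + 1) + 2 = c + 1 by omega]
          exact h3 ▸ Nat.mul_le_mul_left _ h2
      · refine Nat.le_of_mul_le_mul_right (c := p) ?_ hp.out.pos
        rw [← pow_succ, show c - (j + 1) + 1 = c - j by omega]
        exact (mul_le_card_lcs hS (hne j (by omega))).trans (ih hj0 (by omega))
  refine le_antisymm (hup i hi1 hi) ?_
  have := hlow (c - i) (by omega)
  rwa [show c - (c - i) = i by omega] at this

/-- The two-step centralisers. -/
def layerCent (S : Type*) [Group S] (i : ℕ) : Subgroup S :=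
  (Subgroup.centralizer (((lcs S i).map (QuotientGroup.mk' (lcs S (i + 2))) : Subgroup _) :
    Set (S ⧸ lcs S (i + 2)))).comap (QuotientGroup.mk' (lcs S (i + 2)))

theorem mem_layerCent {i : ℕ} {s : S} :
    s ∈ layerCent S i ↔ ∀ b ∈ lcs S i, ⁅b, s⁆ ∈ lcs S (i + 2) := by
  rw [layerCent, Subgroup.mem_comap, Subgroup.mem_centralizer_iff]
  constructor
  · intro h b hb
    refine (QuotientGroup.eq_one_iff _).1 ?_
    show QuotientGroup.mk' (lcs S (i + 2)) ⁅b, s⁆ = 1
    rw [map_commutatorElement, commutatorElement_eq_one_iff_mul_comm]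
    exact h _ (Subgroup.mem_map_of_mem _ hb)
  · rintro h _ ⟨b, hb, rfl⟩
    refine commutatorElement_eq_one_iff_mul_comm.1 ?_
    rw [← map_commutatorElement]
    exact (QuotientGroup.eq_one_iff _).2 (h b hb)

theorem layerCent_ne_top [Group.IsNilpotent S] {i : ℕ} (h : lcs S (i + 1) ≠ ⊥) :
    layerCent S i ≠ ⊤ := by
  intro htop
  refine h (lcs_eq_bot_of_stationary (le_antisymm (lcs_le (Nat.le_succ _)) ?_))
  show ⁅lcs S i, (⊤ : Subgroup S)⁆ ≤ lcs S (i + 2)
  exact Subgroup.commutator_le.2 fun b hb s _ => mem_layerCent.1 (htop ▸ Subgroup.mem_top s) b hb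

/-- A `p`-group is not the union of `p` proper subgroups. -/
theorem exists_notMem_of_card_le (hS : IsPGroup p S) {ι : Type*} [Nontrivial S] (s : Finset ι)
    (hs : s.card ≤ p) (H : ι → Subgroup S) (hH : ∀ i ∈ s, H i ≠ ⊤) :
    ∃ x : S, ∀ i ∈ s, x ∉ H i := by
  classical
  by_contra hall
  push Not at hall
  haveI := Fintype.ofFinite S
  have hsub : (Finset.univ : Finset S).erase 1 ⊆
      s.biUnion (fun i => (Finset.univ.filter (fun x => x ∈ H i)).erase 1) := by
    intro x hx
    obtain ⟨i, hi, hxi⟩ := hall x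
    exact Finset.mem_biUnion.2 ⟨i, hi, Finset.mem_erase.2
      ⟨(Finset.mem_erase.1 hx).1, Finset.mem_filter.2 ⟨Finset.mem_univ _, hxi⟩⟩⟩
  have h1 := (Finset.card_le_card hsub).trans (Finset.card_biUnion_le)
  obtain ⟨n, hn0, hn⟩ := hS.nontrivial_iff_card.1 inferInstance
  obtain ⟨m, rfl⟩ : ∃ m, n = m + 1 := ⟨n - 1, by omega⟩
  have h2 : ∀ i ∈ s, ((Finset.univ.filter (fun x => x ∈ H i)).erase 1).card ≤ p ^ m - 1 := by
    intro i hi
    rw [Finset.card_erase_of_mem (by simp [(H i).one_mem]), ← Fintype.card_subtype,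
      ← Nat.card_eq_fintype_card]
    refine Nat.sub_le_sub_right ?_ 1
    obtain ⟨j, hj⟩ := IsPGroup.iff_card.1 (hS.to_subgroup (H i))
    show Nat.card (H i) ≤ p ^ m
    rw [hj]
    refine Nat.pow_le_pow_right hp.out.pos ?_
    by_contra hlt
    refine hH i hi (Subgroup.eq_top_of_le_card _ ?_)
    rw [hn, hj]; exact Nat.pow_le_pow_right hp.out.pos (by omega)
  rw [Finset.card_erase_of_mem (Finset.mem_univ _), Finset.card_univ, ← Nat.card_eq_fintype_card,
    hn] at h1
  have h3 := h1.trans ((Finset.sum_le_card_nsmul _ _ _ h2).trans (le_of_eq (smul_eq_mul _ _)))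
  have h4 : p ^ (m + 1) - 1 ≤ p * (p ^ m - 1) := h3.trans (Nat.mul_le_mul_right _ hs)
  rw [Nat.mul_sub, mul_one, ← pow_succ'] at h4
  have h5 : p ≤ p ^ (m + 1) := Nat.le_self_pow (Nat.succ_ne_zero m) p
  have := hp.out.two_le
  omega

theorem sum_one_add_pow {R : Type*} [Ring R] (D : R) (n : ℕ) :
    ∑ i ∈ Finset.range n, (1 + D) ^ i = ∑ j ∈ Finset.range n, n.choose (j + 1) • D ^ j := by
  induction n with
  | zero => simp
  | succ n ih =>
    rw [Finset.sum_range_succ, ih]
    have h1 : (1 + D) ^ n = ∑ j ∈ Finset.range (n + 1), n.choose j • D ^ j := by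
      rw [add_comm, (Commute.one_right D).add_pow]
      refine Finset.sum_congr rfl fun j _ => ?_
      simp [Nat.cast_comm, nsmul_eq_mul]
    rw [h1]
    have h2 : ∑ j ∈ Finset.range n, n.choose (j + 1) • D ^ j =
        ∑ j ∈ Finset.range (n + 1), n.choose (j + 1) • D ^ j := by
      rw [Finset.sum_range_succ, Nat.choose_succ_self, zero_smul, add_zero]
    rw [h2, ← Finset.sum_add_distrib]
    refine Finset.sum_congr rfl fun j _ => ?_
    rw [← add_smul, Nat.choose_succ_succ', add_comm]

/-- The `k`-th term is elementary abelian of order `p ^ (k + 1)`. -/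
theorem exists_elementary (hS : IsPGroup p S) {k : ℕ} (hk : 2 ≤ k) (hpk : k + 2 ≤ p)
    (hcard : Nat.card S = p ^ (2 * k + 1)) (hcl : Group.nilpotencyClass S = 2 * k) :
    ∃ A : Subgroup S, Nat.card A = p ^ (k + 1) ∧ (∀ a ∈ A, ∀ b ∈ A, a * b = b * a) ∧
      ∀ a ∈ A, a ^ p = 1 := by
  haveI := hS.isNilpotent
  have hp2 := hp.out.two_le
  haveI : Nontrivial S := Finite.one_lt_card_iff_nontrivial.1
    (hcard ▸ Nat.one_lt_pow (by omega) hp.out.one_lt)
  have hcards : ∀ i, 1 ≤ i → i ≤ 2 * k → Nat.card (lcs S i) = p ^ (2 * k - i) :=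
    fun i h1 h2 => card_lcs hS (by omega) hcard hcl h1 h2
  have hbot : lcs S (2 * k) = ⊥ :=
    Subgroup.lowerCentralSeries_eq_bot_iff_nilpotencyClass_le.2 hcl.le
  have hne : ∀ j, j < 2 * k → lcs S j ≠ ⊥ := fun j hj h => by
    have := Subgroup.lowerCentralSeries_eq_bot_iff_nilpotencyClass_le.1 h
    omega
  have hrel : ∀ i, 1 ≤ i → i < 2 * k → (lcs S (i + 1)).relIndex (lcs S i) = p := by
    intro i h1 h2
    have h3 := card_mul_relIndex_lcs (lcs_le (S := S) (Nat.le_succ i))
    rw [hcards i h1 h2.le, hcards (i + 1) (by omega) (by omega),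
      show 2 * k - i = 2 * k - (i + 1) + 1 by omega, pow_succ] at h3
    exact Nat.eq_of_mul_eq_mul_left (pow_pos hp.out.pos _) h3
  -- outside a two-step centraliser the layer map is injective
  have hinj : ∀ i, 1 ≤ i → i < 2 * k → ∀ s, s ∉ layerCent S i → ∀ t ∈ lcs S i, Commute t s →
      t ∈ lcs S (i + 1) := by
    intro i h1 h2 s hs t ht hts
    by_contra htn
    refine hs (mem_layerCent.2 fun b hb => ?_)
    obtain ⟨j, hj⟩ := exists_zpow_mul (lcs_le (Nat.le_succ i)) hp.out (hrel i h1 h2) ht htn hb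
    obtain ⟨c, hc, rfl⟩ : ∃ c ∈ lcs S (i + 1), b = t ^ j * c := ⟨_, hj, by group⟩
    have hts' := (hts.zpow_left j).eq
    have he : ⁅t ^ j * c, s⁆ = t ^ j * ⁅c, s⁆ * (t ^ j)⁻¹ := by
      rw [commutatorElement_def, commutatorElement_def]
      calc t ^ j * c * s * (t ^ j * c)⁻¹ * s⁻¹
          = t ^ j * (c * s * c⁻¹) * ((t ^ j)⁻¹ * s⁻¹) := by group
        _ = t ^ j * (c * s * c⁻¹) * (s⁻¹ * (t ^ j)⁻¹) := by
          rw [← mul_inv_rev, ← hts', mul_inv_rev]
        _ = _ := by group
    rw [he]
    exact Subgroup.Normal.conj_mem inferInstance _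
      (Subgroup.commutator_mem_commutator hc (Subgroup.mem_top s)) _
  have hpowone : ∀ x : S, x ^ p ∈ lcs S 1 := by
    have hQ : Nat.card (S ⧸ lcs S 1) = p ^ 2 := by
      have h3 := Subgroup.card_mul_index (lcs S 1)
      rw [hcards 1 le_rfl (by omega), hcard] at h3
      refine Nat.eq_of_mul_eq_mul_left (pow_pos hp.out.pos (2 * k - 1)) (h3.trans ?_)
      rw [← pow_add]; congr 1; omega
    intro x
    refine (QuotientGroup.eq_one_iff _).1 ?_
    rw [QuotientGroup.mk_pow]
    set q : S ⧸ lcs S 1 := (x : S ⧸ lcs S 1)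
    obtain ⟨j, hj, hord⟩ := (Nat.dvd_prime_pow hp.out).1 (hQ ▸ orderOf_dvd_natCard q)
    rcases (by omega : j ≤ 1 ∨ j = 2) with hj1 | rfl
    · exact orderOf_dvd_iff_pow_eq_one.1 (hord ▸ (pow_dvd_pow p hj1).trans (pow_one p).dvd)
    · exfalso
      have hcyc : IsCyclic (S ⧸ lcs S 1) := isCyclic_of_orderOf_eq_card q (hord.trans hQ.symm)
      exact hne 1 (by omega) (lcs_one_eq_bot_of_isCyclic hcyc)
  -- `p`-th powers lie deep in the series
  have hdeep : ∀ x : S, x ^ p ∈ lcs S (k - 1) := by
    set m := min p (2 * k + 1) with hm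
    set T := Finset.Ico 1 (m - 2) with hT
    set good : Set S := {s | ∀ i ∈ T, s ∉ layerCent S i} with hgood
    have hTproper : ∀ i ∈ T, layerCent S i ≠ ⊤ := fun i hi =>
      layerCent_ne_top (hne (i + 1) (by rw [hT, Finset.mem_Ico] at hi; omega))
    have hgoodpow : ∀ s ∈ good, s ^ p ∈ lcs S (m - 2) := by
      intro s hs
      have : ∀ j, 1 ≤ j → j ≤ m - 2 → s ^ p ∈ lcs S j := by
        intro j
        induction j with
        | zero => omega
        | succ j ih =>
          intro _ hj
          rcases Nat.eq_zero_or_pos j with rfl | hj0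
          · exact hpowone s
          · exact hinj j hj0 (by omega) s (hs j (by rw [hT, Finset.mem_Ico]; omega)) _
              (ih hj0 (by omega)) (Commute.pow_self s p)
      exact this (m - 2) (by omega) le_rfl
    have hgen : Subgroup.closure good = ⊤ := by
      by_contra hcl'
      obtain ⟨x, hx⟩ := exists_notMem_of_card_le hS (insert (0 : ℕ) T)
        ((Finset.card_insert_le _ _).trans (by rw [hT, Nat.card_Ico]; omega))
        (fun i => if i = 0 then Subgroup.closure good else layerCent S i) (by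
          intro i hi
          by_cases h0 : i = 0
          · simpa [h0] using hcl'
          · rw [if_neg h0]
            exact hTproper i ((Finset.mem_insert.1 hi).resolve_left h0))
      have h0 := hx 0 (Finset.mem_insert_self _ _)
      rw [if_pos rfl] at h0
      refine h0 (Subgroup.subset_closure fun i hi => ?_)
      have := hx i (Finset.mem_insert_of_mem hi)
      rwa [if_neg (by rw [hT, Finset.mem_Ico] at hi; omega)] at this
    set φ := QuotientGroup.mk' (lcs S (m - 2)) with hφ
    have hφs : Function.Surjective φ := QuotientGroup.mk'_surjective _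
    have hQp : IsPGroup p (S ⧸ lcs S (m - 2)) := hS.to_quotient _
    have hreg : Cfsg.IsRegularPGroup p (S ⧸ lcs S (m - 2)) := by
      refine HallPetresco.isRegularPGroup_of_lowerCentralSeries_eq_bot hQp ?_
      rw [← Subgroup.map_top_of_surjective φ hφs, ← Subgroup.map_lowerCentralSeries,
        Subgroup.map_eq_bot_iff, hφ, QuotientGroup.ker_mk']
      exact lcs_le (S := S) (by omega)
    have hall : Subgroup.closure good ≤ (Regular.regularOmega hreg 1).comap φ := by
      refine (Subgroup.closure_le _).2 fun s hs => ?_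
      show φ s ^ p ^ 1 = 1
      rw [pow_one, ← map_pow]
      exact (QuotientGroup.eq_one_iff _).2 (hgoodpow s hs)
    intro x
    have hx : φ x ^ p ^ 1 = 1 := hall (hgen ▸ Subgroup.mem_top x)
    rw [pow_one, ← map_pow] at hx
    exact lcs_le (by omega) ((QuotientGroup.eq_one_iff _).1 hx)
  -- the good element
  set T := Finset.Ico (k - 2) (2 * k - 1) with hT
  obtain ⟨s, hs⟩ := exists_notMem_of_card_le hS T (by rw [hT, Nat.card_Ico]; omega) (layerCent S)
    (fun i hi => layerCent_ne_top (hne (i + 1) (by rw [hT, Finset.mem_Ico] at hi; omega)))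
  have ht : ∀ j, k - 1 ≤ j → j ≤ 2 * k - 1 → s ^ p ∈ lcs S j := by
    intro j
    induction j with
    | zero => intro h _; exact absurd h (by omega)
    | succ j ih =>
      intro hj1 hj2
      rcases eq_or_lt_of_le hj1 with he | hlt
      · rw [← he]; exact hdeep s
      · exact hinj j (by omega) (by omega) s (hs j (by rw [hT, Finset.mem_Ico]; omega)) _
          (ih (by omega) (by omega)) (Commute.pow_self s p)
  have htc : ∀ b : S, Commute b (s ^ p) := by
    intro b
    have h := Subgroup.commutator_mem_commutator (ht (2 * k - 1) (by omega) le_rfl) (Subgroup.mem_top b)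
    have h2 : ⁅s ^ p, b⁆ ∈ lcs S (2 * k - 1 + 1) := h
    rw [show 2 * k - 1 + 1 = 2 * k by omega, hbot, Subgroup.mem_bot,
      commutatorElement_eq_one_iff_commute] at h2
    exact h2.symm
  set A := lcs S (k - 1) with hA
  have hAcard : Nat.card A = p ^ (k + 1) := by
    rw [hcards (k - 1) (by omega) (by omega)]; congr 1; omega
  have hAab : ∀ a ∈ A, ∀ b ∈ A, a * b = b * a := by
    have hAk : ∀ u ∈ lcs S k, ∀ v ∈ A, Commute u v := by
      intro u hu v hv
      have h := (HallPetresco.commutator_lowerCentralSeries_le (G := S) (k - 1) k)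
        (Subgroup.commutator_mem_commutator hu hv)
      rw [show k + (k - 1) + 1 = 2 * k by omega, show (⊤ : Subgroup S).lowerCentralSeries (2 * k) = ⊥
        from hbot, Subgroup.mem_bot, commutatorElement_eq_one_iff_commute] at h
      exact h
    obtain ⟨a0, ha0, ha0n⟩ : ∃ a0 ∈ A, a0 ∉ lcs S k := by
      refine SetLike.exists_of_lt (lt_of_le_of_ne (lcs_le (by omega)) fun h => ?_)
      have := hAcard
      rw [← h, hcards k (by omega) (by omega)] at this
      have := Nat.pow_right_injective hp.out.two_le this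
      omega
    intro a ha b hb
    have hr := hrel (k - 1) (by omega) (by omega)
    rw [show k - 1 + 1 = k by omega] at hr
    obtain ⟨i, hi⟩ := exists_zpow_mul (lcs_le (by omega)) hp.out hr ha0 ha0n ha
    obtain ⟨j, hj⟩ := exists_zpow_mul (lcs_le (by omega)) hp.out hr ha0 ha0n hb
    obtain ⟨c, hc, rfl⟩ : ∃ c ∈ lcs S k, a = a0 ^ i * c := ⟨_, hi, by group⟩
    obtain ⟨d, hd, rfl⟩ : ∃ d ∈ lcs S k, b = a0 ^ j * d := ⟨_, hj, by group⟩
    exact (((Commute.refl a0).zpow_zpow i j).mul_right (hAk d hd _ (A.zpow_mem ha0 i)).symm).mul_left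
      ((hAk c hc _ (A.zpow_mem ha0 j)).mul_right (hAk c hc d (lcs_le (by omega) hd)))
  refine ⟨A, hAcard, hAab, ?_⟩
  letI : CommGroup A := { (inferInstance : Group A) with
    mul_comm := fun a b => Subtype.ext (hAab a a.2 b b.2) }
  let uA : A →* A :=
    { toFun := fun a => ⟨s * a * s⁻¹, Subgroup.Normal.conj_mem inferInstance _ a.2 s⟩
      map_one' := Subtype.ext (by simp)
      map_mul' := fun a b => Subtype.ext (show s * ((a : S) * b) * s⁻¹ = s * a * s⁻¹ * (s * b * s⁻¹) by group) }
  let u : AddMonoid.End (Additive A) := MonoidHom.toAdditive uA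
  have huval : ∀ a : A, ((Additive.toMul (u (Additive.ofMul a)) : A) : S) = s * a * s⁻¹ := fun a => rfl
  set D : AddMonoid.End (Additive A) := u - 1 with hD
  have hu : u = 1 + D := by rw [hD]; abel
  have hlayer : ∀ (j : ℕ) (a : Additive A),
      ((Additive.toMul ((D ^ j) a) : A) : S) ∈ lcs S (k - 1 + j) := by
    intro j
    induction j with
    | zero => intro a; exact (Additive.toMul a).2
    | succ j ih =>
      intro a
      have h1 := Subgroup.commutator_mem_commutator (ih a) (Subgroup.mem_top s⁻¹)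
      have e : (((D ^ (j + 1)) a).toMul : S) =
          s * (((D ^ j) a).toMul : S) * s⁻¹ * (((D ^ j) a).toMul : S)⁻¹ := by
        rw [pow_succ']
        show (((u - 1) ((D ^ j) a)).toMul : S) = _
        rw [show (u - 1) ((D ^ j) a) = u ((D ^ j) a) - (D ^ j) a from rfl]
        show ((Additive.toMul (u ((D ^ j) a)) / Additive.toMul ((D ^ j) a) : A) : S) = _
        rw [div_eq_mul_inv]
        rfl
      rw [e, show k - 1 + (j + 1) = k - 1 + j + 1 by omega]
      set w : S := (((D ^ j) a).toMul : S)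
      have h2 : s * w * s⁻¹ * w⁻¹ = s * (⁅w, s⁻¹⁆) * s⁻¹ := by
        rw [commutatorElement_def]; group
      rw [h2]
      exact Subgroup.Normal.conj_mem inferInstance _ h1 s
  have hD0 : D ^ (p - 1) = 0 := by
    refine AddMonoidHom.ext fun a => ?_
    have h := lcs_le (S := S) (show 2 * k ≤ k - 1 + (p - 1) by omega) (hlayer (p - 1) a)
    rw [hbot, Subgroup.mem_bot] at h
    have h2 : ((D ^ (p - 1)) a).toMul = 1 := Subtype.ext h
    exact h2
  obtain ⟨w, hwD, hw⟩ : ∃ w, Commute D w ∧
      ∑ i ∈ Finset.range p, u ^ i = (p : AddMonoid.End (Additive A)) * (1 + D * w) := by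
    refine ⟨∑ j ∈ Finset.range (p - 2), (p.choose (j + 2) / p) • D ^ j,
      Commute.sum_right _ _ _ fun j _ => ((Commute.refl D).pow_right j).smul_right _, ?_⟩
    rw [hu, sum_one_add_pow, mul_add, mul_one, Finset.mul_sum, Finset.mul_sum]
    conv_lhs => rw [show p = (p - 2) + 1 + 1 by omega]
    rw [Finset.sum_range_succ, Finset.sum_range_succ']
    rw [show p - 2 + 1 + 1 = p by omega, show (p - 2) + 1 = p - 1 by omega, hD0, smul_zero, add_zero,
      pow_zero, Nat.choose_one_right, nsmul_one, add_comm]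
    congr 1
    refine Finset.sum_congr rfl fun j hj => ?_
    rw [Finset.mem_range] at hj
    have hd : p * (p.choose (j + 2) / p) = p.choose (j + 2) :=
      Nat.mul_div_cancel' (hp.out.dvd_choose_self (by omega) (by omega))
    rw [mul_smul_comm, ← pow_succ', ← nsmul_eq_mul, smul_smul, hd]
  have hunit : IsUnit (1 + D * w) :=
    IsNilpotent.isUnit_one_add (hwD.isNilpotent_mul_right ⟨p - 1, hD0⟩)
  -- the identity from conjugating `s`
  have hkey : ∀ i, k - 1 ≤ i → i + 1 ≤ 2 * k → ∀ b ∈ lcs S (i - 1), ∀ hb : ⁅b, s⁆ ∈ A, ⁅b, s⁆ ^ p = 1 := by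
    intro i _ _ b _ hb
    set a : A := ⟨⁅b, s⁆, hb⟩ with ha
    have hprod : ∀ n, ((a : S) * s) ^ n =
        ((Additive.toMul ((∑ i ∈ Finset.range n, u ^ i) (Additive.ofMul a)) : A) : S) * s ^ n := by
      intro n
      induction n with
      | zero => simp
      | succ n ih =>
        rw [pow_succ', ih, Finset.sum_range_succ', pow_zero]
        have e : (∑ i ∈ Finset.range n, u ^ (i + 1)) = u * ∑ i ∈ Finset.range n, u ^ i := by
          rw [Finset.mul_sum]; exact Finset.sum_congr rfl fun i _ => pow_succ' u i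
        rw [e]
        show _ = (((Additive.toMul (u ((∑ i ∈ Finset.range n, u ^ i) (Additive.ofMul a))) * a : A)) : S) * _
        rw [mul_comm (Additive.toMul (u _)) a, Subgroup.coe_mul]
        set z : S := (((∑ i ∈ Finset.range n, u ^ i) (Additive.ofMul a)).toMul : S)
        show _ = (a : S) * (s * z * s⁻¹) * _
        rw [pow_succ']; group
    have h1 : ((a : S) * s) ^ p = s ^ p := by
      have e : (a : S) * s = b * s * b⁻¹ := by
        show ⁅b, s⁆ * s = _
        rw [commutatorElement_def]; group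
      rw [e, conj_pow, (htc b).eq, mul_inv_cancel_right]
    rw [hprod p, mul_eq_right, hw] at h1
    have h2 : ((p : AddMonoid.End (Additive A)) * (1 + D * w)) (Additive.ofMul a) = 0 := by
      have h2' : Additive.toMul (((p : AddMonoid.End (Additive A)) * (1 + D * w)) (Additive.ofMul a)) = 1 :=
        Subtype.ext h1
      exact h2'
    rw [(Nat.cast_commute p _).eq] at h2
    obtain ⟨v, hv⟩ := hunit
    have h3 : (p : AddMonoid.End (Additive A)) (Additive.ofMul a) = 0 := by
      have h4 := congrArg (↑v⁻¹ : AddMonoid.End (Additive A)) h2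
      rw [map_zero, ← hv] at h4
      have h5 : ((↑v⁻¹ * (↑v * (p : AddMonoid.End (Additive A)))) : AddMonoid.End (Additive A))
          (Additive.ofMul a) = 0 := h4
      rwa [← mul_assoc, Units.inv_mul, one_mul] at h5
    have h6 : a ^ p = 1 := by
      have h7 : p • (Additive.ofMul a) = 0 := by simpa using h3
      exact h7
    exact congrArg Subtype.val h6
  -- all layers
  let Ω : Subgroup A := (powMonoidHom p : A →* A).ker
  have hall : ∀ d, d ≤ k + 1 → ∀ a : A, (a : S) ∈ lcs S (2 * k - d) → a ^ p = 1 := by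
    intro d
    induction d with
    | zero =>
      intro _ a ha
      rw [Nat.sub_zero, hbot, Subgroup.mem_bot] at ha
      rw [show a = 1 from Subtype.ext ha, one_pow]
    | succ d ih =>
      intro hd a ha
      set i := 2 * k - (d + 1) with hi
      have hnc := hs (i - 1) (by rw [hT, Finset.mem_Ico]; omega)
      rw [mem_layerCent] at hnc
      push Not at hnc
      obtain ⟨b, hb, hbn⟩ := hnc
      rw [show i - 1 + 2 = i + 1 by omega] at hbn
      have hbi : ⁅b, s⁆ ∈ lcs S i := by
        have := Subgroup.commutator_mem_commutator hb (Subgroup.mem_top s)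
        rw [show i = i - 1 + 1 by omega]
        exact this
      have hbA : ⁅b, s⁆ ∈ A := lcs_le (by omega) hbi
      obtain ⟨j, hj⟩ := exists_zpow_mul (lcs_le (Nat.le_succ i)) hp.out (hrel i (by omega) (by omega))
        hbi hbn ha
      set c : A := ⟨_, lcs_le (show k - 1 ≤ i + 1 by omega) hj⟩ with hc
      have hc1 : c ^ p = 1 := ih (by omega) c (by rw [show 2 * k - d = i + 1 by omega]; exact hj)
      have he : a = (⟨_, hbA⟩ : A) ^ j * c := Subtype.ext (by simp [hc])
      have hb1 : (⟨_, hbA⟩ : A) ^ p = 1 := Subtype.ext (hkey i (by omega) (by omega) b hb hbA)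
      rw [he, mul_pow, hc1, mul_one, ← zpow_natCast, ← zpow_mul, mul_comm, zpow_mul, zpow_natCast, hb1,
        one_zpow]
  intro a ha
  exact congrArg Subtype.val (hall (k + 1) le_rfl ⟨a, ha⟩
    (by rw [show 2 * k - (k + 1) = k - 1 by omega]; exact ha))

end Cfsg.Agent.Lib.MaxClassPow
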